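import Groth.Agent.Lib.GrSerre13.Basic
import Groth.Agent.Lib.RelProj11.RelTilde

/-! # The bound in Serre's theorem is uniform over a quasi-compact base -/

set_option autoImplicit false
set_option linter.style.haveILetI false
universe u

open CategoryTheory AlgebraicGeometry TopologicalSpace Opposite
open scoped HomogeneousIdeal

noncomputable section

namespace Groth.Agent.GrSerreU13

open Groth.Agent.GrMod11 Groth.Agent.RelProj11 Groth.Agent.M1

variable {S : Scheme.{u}} {𝒮 : RelProj.QCGrAlg S} (ℳ : RelProj.GrModule 𝒮)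

/-- `N` is a bound for the bijectivity over `U`. -/
def Good (N : ℕ) (U : S.Opens) (hU : IsAffineOpen U) : Prop :=
  ∀ n : ℕ, N ≤ n → Function.Bijective (GrMod.alpha (𝒮.deg U hU) (ℳ.deg U hU) n)

theorem good_of_bounds_basic (hℳ : Coh.IsQCoh (osMod ℳ)) {U D : S.Opens} (hU : IsAffineOpen U) (hD : IsAffineOpen D)
    (h : IsBasic U D) {κ : Type u} [Fintype κ] (g : κ → 𝒮.presheaf.obj (op U)) (e : κ → ℕ)
    (hg : ∀ l, g l ∈ 𝒮.deg U hU (e l)) (he : ∀ l, 0 < e l)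
    (hgen : ((𝒮.deg U hU)₊).toIdeal = Ideal.span (Set.range g)) {N : ℕ}
    (hinj : ∀ n, N ≤ n → ∀ m ∈ ℳ.deg U hU n, (∀ l, g l • m = 0) → m = 0)
    (hext : ∀ n, N ≤ n → ∀ z : κ → ℳ.mod.val.obj (op U), (∀ l, z l ∈ ℳ.deg U hU (n + e l)) →
      (∀ i j, g j • z i = g i • z j) → ∃ m ∈ ℳ.deg U hU n, ∀ i, z i = g i • m) :
    Good ℳ N D hD := by
  classical
  obtain ⟨r, hr⟩ := id h
  let ψ := 𝒮.res hU hD h.le
  let v := ℳ.res hU hD h.le
  have hres := isResLoc 𝒮 hU hD h.le r hr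
  let c : 𝒮.presheaf.obj (op U) := (((𝒮.strZero U hU).hom r : 𝒮.deg U hU 0) : 𝒮.presheaf.obj (op U))
  have hc : c ∈ 𝒮.deg U hU 0 := ((𝒮.strZero U hU).hom r).2
  have hunit : ∀ k, IsUnit (ψ c ^ k) := fun k => by
    obtain ⟨w, hw⟩ := RelProj11.exists_inv hres
    exact (IsUnit.of_mul_eq_one (w : 𝒮.presheaf.obj (op D)) (congrArg Subtype.val hw)).pow k
  have hcancel : ∀ (k : ℕ) (y y' : ℳ.mod.val.obj (op D)), ψ c ^ k • y = ψ c ^ k • y' → y = y' := fun k y y' e =>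
    (hunit k).smul_left_cancel.1 e
  have hlift : ∀ (i : ℕ) (y : ℳ.mod.val.obj (op D)), y ∈ ℳ.deg D hD i →
      ∃ (K : ℕ) (m : ℳ.mod.val.obj (op U)), m ∈ ℳ.deg U hU i ∧ v m = ψ c ^ K • y :=
    fun i y hy => grModule_exists_lift hℳ hU hD h.le r hr i y hy
  have hzero : ∀ m : ℳ.mod.val.obj (op U), v m = 0 → ∃ K : ℕ, c ^ K • m = 0 := fun m hm =>
    grModule_res_eq_zero hℳ hU hD h.le r hr m hm
  have hdeg : ∀ (k i : ℕ) (m : ℳ.mod.val.obj (op U)), m ∈ ℳ.deg U hU i → c ^ k • m ∈ ℳ.deg U hU i := fun k i m hm => by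
    simpa using smul_mem_graded (𝒮.deg U hU) (SetLike.pow_mem_graded k hc) hm
  have hgenD : ((𝒮.deg D hD)₊).toIdeal = Ideal.span (Set.range fun l => ψ (g l)) := by
    refine le_antisymm (fun a ha => ?_) (Ideal.span_le.2 ?_)
    · have ha' : a ∈ Ideal.map ψ ((𝒮.deg U hU)₊).toIdeal := h.irrelevant hU hD ha
      rw [hgen, Ideal.map_span, ← Set.range_comp] at ha'
      exact ha'
    · rintro _ ⟨l, rfl⟩
      exact GrSerre13.mem_irrelevant _ (he l) (ψ.map_mem (hg l))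
  refine fun n hn => GrSerre13.bijective_alpha_of_bounds _ _ (fun l => ψ (g l)) e (fun l => ψ.map_mem (hg l)) he hgenD
    (fun n hn y hy hy0 => ?_) (fun n hn z hz hzc => ?_) hn
  · obtain ⟨K, m, hm, hvm⟩ := hlift n y hy
    choose L hL using fun l => hzero (g l • m) (by
      rw [LinearMap.map_smulₛₗ, hvm, smul_comm]
      exact (congrArg (ψ c ^ K • ·) (hy0 l)).trans (smul_zero _))
    have h0 : c ^ (∑ l, L l) • m = 0 := hinj n hn _ (hdeg _ _ _ hm) fun l => by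
      rw [smul_comm]
      obtain ⟨q, hq⟩ := Nat.exists_eq_add_of_le (Finset.single_le_sum (fun l _ => Nat.zero_le (L l)) (Finset.mem_univ l))
      rw [hq, add_comm, pow_add, mul_smul, hL, smul_zero]
    refine hcancel (∑ l, L l + K) _ _ ?_
    rw [smul_zero, pow_add, mul_smul, ← hvm, ← map_pow]
    exact (LinearMap.map_smulₛₗ v _ m).symm.trans (by rw [h0, map_zero])
  · choose K m hm hvm using fun l => hlift (n + e l) (z l) (hz l)
    let K₀ := ∑ l, K l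
    let m' : κ → ℳ.mod.val.obj (op U) := fun l => c ^ (K₀ - K l) • m l
    have hm' : ∀ l, v (m' l) = ψ c ^ K₀ • z l := fun l => by
      simp only [m', LinearMap.map_smulₛₗ, hvm]
      show ψ (c ^ (K₀ - K l)) • _ = _
      rw [map_pow, smul_smul, ← pow_add,
        Nat.sub_add_cancel (Finset.single_le_sum (fun l _ => Nat.zero_le (K l)) (Finset.mem_univ l))]
    have hm'deg : ∀ l, m' l ∈ ℳ.deg U hU (n + e l) := fun l => hdeg _ _ _ (hm l)
    clear_value m'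
    choose L hL using fun p : κ × κ => hzero (g p.2 • m' p.1 - g p.1 • m' p.2) (by
      rw [map_sub, LinearMap.map_smulₛₗ, LinearMap.map_smulₛₗ, hm', hm', smul_comm, smul_comm _ (ψ c ^ K₀)]
      exact sub_eq_zero.2 (congrArg (ψ c ^ K₀ • ·) (hzc p.1 p.2)))
    let L₀ := ∑ p, L p
    obtain ⟨w, hw, hwz⟩ := hext n hn (fun l => c ^ L₀ • m' l) (fun l => hdeg _ _ _ (hm'deg l)) fun i j => by
      rw [smul_comm, smul_comm (g i)]
      refine sub_eq_zero.1 ?_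
      obtain ⟨q, hq⟩ := Nat.exists_eq_add_of_le (Finset.single_le_sum (fun l _ => Nat.zero_le (L l)) (Finset.mem_univ (i, j)))
      rw [← smul_sub, show L₀ = L (i, j) + q from hq, add_comm, pow_add, mul_smul, hL (i, j), smul_zero]
    obtain ⟨u, hu⟩ := exists_inv hres
    have hu' : ψ c * (u : 𝒮.presheaf.obj (op D)) = 1 := congrArg Subtype.val hu
    refine ⟨(u : 𝒮.presheaf.obj (op D)) ^ (L₀ + K₀) • v w, ?_, fun l => ?_⟩
    · have h' := smul_mem_graded (𝒮.deg D hD) (SetLike.pow_mem_graded (L₀ + K₀) u.2) (ℳ.res_mem hU hD h.le n w hw)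
      rw [smul_zero, zero_add] at h'
      exact h'
    · refine hcancel (L₀ + K₀) _ _ ?_
      have h1 := congrArg v (hwz l)
      rw [LinearMap.map_smulₛₗ, LinearMap.map_smulₛₗ, hm'] at h1
      rw [smul_comm, smul_smul (ψ c ^ (L₀ + K₀)), ← mul_pow, hu', one_pow, one_smul]
      refine Eq.trans ?_ h1
      show _ = ψ (c ^ L₀) • _
      rw [map_pow, smul_smul, ← pow_add]

open AlgebraicGeometry HomogeneousLocalization in
/-- The locus where a degree zero element is invertible. -/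
theorem toSpecZero_preimage_basicOpen {A σ : Type u} [CommRing A] [SetLike σ A] [AddSubgroupClass σ A]
    {𝒜 : ℕ → σ} [GradedRing 𝒜] (r : 𝒜 0) :
    Proj.toSpecZero 𝒜 ⁻¹ᵁ PrimeSpectrum.basicOpen r = Proj.basicOpen 𝒜 (r : A) := by
  ext x
  obtain ⟨i, w, rfl⟩ : ∃ (i : (Proj.affineOpenCover 𝒜).I₀) (w : Spec (CommRingCat.of (Away 𝒜 (i.2 : A)))),
      Proj.awayι 𝒜 (i.2 : A) i.2.2 i.1.2 w = x := ⟨_, (Proj.affineOpenCover 𝒜).openCover.covers x⟩
  obtain ⟨⟨d, hd⟩, f, hf⟩ := i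
  change _ ↔ Proj.awayι 𝒜 f hf hd w ∈ Proj.basicOpen 𝒜 (r : A)
  have hfx : Proj.awayι 𝒜 f hf hd w ∈ Proj.basicOpen 𝒜 f := by
    rw [← Proj.opensRange_awayι 𝒜 f hf hd]
    exact ⟨w, rfl⟩
  have h1 : Proj.awayι 𝒜 f hf hd w ∈ Proj.basicOpen 𝒜 (r : A) ↔
      Proj.awayι 𝒜 f hf hd w ∈ Proj.basicOpen 𝒜 ((r : A) * f) := by
    rw [Proj.basicOpen_mul]
    exact ⟨fun h => ⟨h, hfx⟩, fun h => h.1⟩
  have hrf : (r : A) * f ∈ 𝒜 d := by simpa using SetLike.mul_mem_graded r.2 hf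
  rw [h1]
  change _ ↔ w ∈ Proj.awayι 𝒜 f hf hd ⁻¹ᵁ Proj.basicOpen 𝒜 ((r : A) * f)
  rw [Proj.awayι_preimage_basicOpen 𝒜 hf hd hrf hd]
  have he : Away.isLocalizationElem hf hrf = fromZeroRingHom 𝒜 (Submonoid.powers f) r ^ d := by
    apply HomogeneousLocalization.val_injective
    rw [Groth.Agent.RelProj11.val_fromZero_pow, Away.val_mk, Localization.mk_eq_mk_iff, Localization.r_iff_exists]
    exact ⟨1, by simp [mul_pow, mul_comm]⟩
  rw [he, PrimeSpectrum.basicOpen_pow _ _ hd]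
  change (Proj.awayι 𝒜 f hf hd ≫ Proj.toSpecZero 𝒜) w ∈ PrimeSpectrum.basicOpen r ↔ _
  rw [Proj.awayι_toSpecZero]
  exact Iff.rfl

theorem val_congr {U : S.Opens} (hU : IsAffineOpen U) {n : ℤ}
    (s : Sec (ℳ := ℳ.deg U hU) n (⊤ : (Proj (𝒮.deg U hU)).Opens))
    {x x' : ProjectiveSpectrum (𝒮.deg U hU)} (hx : x = x') (a : ℳ.mod.val.obj (op U)) (t : 𝒮.presheaf.obj (op U))
    (ht : t ∉ x.asHomogeneousIdeal) (ht' : t ∉ x'.asHomogeneousIdeal)
    (h : val s x trivial = mkx (𝒮.deg U hU) x a t ht) : val s x' trivial = mkx (𝒮.deg U hU) x' a t ht' := by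
  subst hx; exact h

theorem good_of_cover (hℳ : Coh.IsQCoh (osMod ℳ)) {U : S.Opens} (hU : IsAffineOpen U) {N : ℕ}
    {ι : Type u} (r : ι → Γ(S, U)) (hcov : U ≤ ⨆ i, S.basicOpen (r i))
    (hgood : ∀ i, Good ℳ N _ (hU.basicOpen (r i)))
    (hgood₂ : ∀ i j, Good ℳ N _ (hU.basicOpen (r i * r j))) : Good ℳ N U hU := by
  classical
  let D : ι → S.Opens := fun i => S.basicOpen (r i)
  have hD : ∀ i, IsAffineOpen (D i) := fun i => hU.basicOpen _
  have hDb : ∀ i, IsBasic U (D i) := fun i => ⟨r i, rfl⟩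
  let F : TopCat.Sheaf AddCommGrpCat.{u} S := ⟨(osMod ℳ).presheaf, (osMod ℳ).isSheaf⟩
  have hsep : ∀ a b : ℳ.mod.val.obj (op U),
      (∀ i, ℳ.res hU (hD i) (hDb i).le a = ℳ.res hU (hD i) (hDb i).le b) → a = b := fun a b hab =>
    F.eq_of_locally_eq' D U (fun i => homOfLE (hDb i).le) hcov a b hab
  refine fun n hn => ⟨fun a b hab => Subtype.ext (hsep _ _ fun i => ?_), fun s => ?_⟩
  · let a' : ℳ.deg (D i) (hD i) n := ⟨_, ℳ.res_mem hU (hD i) (hDb i).le n a.1 a.2⟩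
    let b' : ℳ.deg (D i) (hD i) n := ⟨_, ℳ.res_mem hU (hD i) (hDb i).le n b.1 b.2⟩
    refine congrArg Subtype.val ((hgood i n hn).1 (a₁ := a') (a₂ := b') (sec_ext (n := (n : ℤ)) fun y _ => ?_))
    have h1 := congrArg (fun t : Sec (ℳ := ℳ.deg U hU) (n : ℤ) (⊤ : (Proj (𝒮.deg U hU)).Opens) =>
      val t (ProjectiveSpectrum.comap (𝒮.res hU (hD i) (hDb i).le) ((hDb i).irrelevant hU (hD i)) y) trivial) hab
    have h2 := congrArg (GrMod.locModMap _ ((hDb i).irrelevant hU (hD i)) (ℳ.res hU (hD i) (hDb i).le) y) h1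
    erw [locModMap_mkx, locModMap_mkx] at h2
    show mkx _ y _ 1 _ = mkx _ y _ 1 _
    simpa only [map_one] using h2
  let Rel := fun (i : ι) (u : ℳ.mod.val.obj (op (D i))) => ∀ (y : ProjectiveSpectrum (𝒮.deg (D i) (hD i)))
    (a : ℳ.mod.val.obj (op U)) (t : 𝒮.presheaf.obj (op U))
    (ht : t ∉ (ProjectiveSpectrum.comap (𝒮.res hU (hD i) (hDb i).le) ((hDb i).irrelevant hU (hD i)) y).asHomogeneousIdeal),
    val (s : Sec (ℳ := ℳ.deg U hU) (n : ℤ) (⊤ : (Proj (𝒮.deg U hU)).Opens)) _ trivial = mkx (𝒮.deg U hU) _ a t ht →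
    ∃ w, w ∉ y.asHomogeneousIdeal ∧ w • 𝒮.res hU (hD i) (hDb i).le t • u = w • ℳ.res hU (hD i) (hDb i).le a
  have hex : ∀ i, ∃ u ∈ ℳ.deg (D i) (hD i) n, Rel i u := fun i => by
    obtain ⟨u, hu⟩ := (hgood i n hn).2 (GrMod.comapApp (𝒮.res hU (hD i) (hDb i).le) ((hDb i).irrelevant hU (hD i))
      (ℳ.res hU (hD i) (hDb i).le) (ℳ.res_mem hU (hD i) (hDb i).le) (n : ℤ) ⊤ ⊤ (fun _ _ => trivial) s)
    refine ⟨u.1, u.2, fun y a t ht he => ?_⟩
    have h1 := congrArg (fun q : Sec (ℳ := ℳ.deg (D i) (hD i)) (n : ℤ) (⊤ : (Proj (𝒮.deg (D i) (hD i))).Opens) =>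
      val q y trivial) hu
    replace h1 : mkx (𝒮.deg (D i) (hD i)) y u.1 1 (GrMod.one_nin y) =
        GrMod.locModMap _ ((hDb i).irrelevant hU (hD i)) (ℳ.res hU (hD i) (hDb i).le) y
          (val (s : Sec (ℳ := ℳ.deg U hU) (n : ℤ) (⊤ : (Proj (𝒮.deg U hU)).Opens)) _ trivial) := h1
    rw [he, locModMap_mkx, mkx_eq_iff] at h1
    obtain ⟨w, hw, h1⟩ := h1
    exact ⟨w, hw, by rw [one_smul] at h1; exact h1⟩
  choose u hu hrel using hex
  have hglue : TopCat.Presheaf.IsCompatible F.obj D (fun i => (u i : Γ(osMod ℳ, D i))) := fun i j => by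
    have he : S.basicOpen (r i * r j) = D i ⊓ D j := S.basicOpen_mul _ _
    have hEi : S.basicOpen (r i * r j) ≤ D i := he.le.trans inf_le_left
    have hEj : S.basicOpen (r i * r j) ≤ D j := he.le.trans inf_le_right
    have hE := hU.basicOpen (r i * r j)
    have hb : IsBasic U (S.basicOpen (r i * r j)) := ⟨_, rfl⟩
    have key : ℳ.res (hD i) hE hEi (u i) = ℳ.res (hD j) hE hEj (u j) := by
      refine congrArg Subtype.val ((hgood₂ i j n hn).1 (a₁ := ⟨_, ℳ.res_mem (hD i) hE hEi n _ (hu i)⟩)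
        (a₂ := ⟨_, ℳ.res_mem (hD j) hE hEj n _ (hu j)⟩) (sec_ext (n := (n : ℤ)) fun y _ => ?_))
      let x := ProjectiveSpectrum.comap (𝒮.res hU hE hb.le) (hb.irrelevant hU hE) y
      obtain ⟨⟨a, t, ht⟩, hat⟩ : ∃ q : ℳ.mod.val.obj (op U) × x.asHomogeneousIdeal.toIdeal.primeCompl,
          LocalizedModule.mk q.1 q.2 = val (s : Sec (ℳ := ℳ.deg U hU) (n : ℤ) (⊤ : (Proj (𝒮.deg U hU)).Opens)) x trivial := by
        induction val (s : Sec (ℳ := ℳ.deg U hU) (n : ℤ) (⊤ : (Proj (𝒮.deg U hU)).Opens)) x trivial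
          using LocalizedModule.induction_on with
        | h a b => exact ⟨(a, b), rfl⟩
      have hsmul : ∀ k (hEk : S.basicOpen (r i * r j) ≤ D k) (hbk : IsBasic (D k) (S.basicOpen (r i * r j))),
          ∃ w, w ∉ y.asHomogeneousIdeal ∧ w • ℳ.res (hD k) hE hEk (u k) = w • ℳ.res (hD k) hE hEk (u k) ∧
            w • 𝒮.res hU hE hb.le t • ℳ.res (hD k) hE hEk (u k) = w • ℳ.res hU hE hb.le a := by
        intro k hEk hbk
        have hφ : ∀ q, 𝒮.res (hD k) hE hEk (𝒮.res hU (hD k) (hDb k).le q) = 𝒮.res hU hE hb.le q := fun q =>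
          DFunLike.congr_fun (res_comp 𝒮 hU (hD k) hE (hDb k).le hEk) q
        let y' := ProjectiveSpectrum.comap (𝒮.res (hD k) hE hEk) (hbk.irrelevant (hD k) hE) y
        have hxy : x = ProjectiveSpectrum.comap (𝒮.res hU (hD k) (hDb k).le) ((hDb k).irrelevant hU (hD k)) y' :=
          ProjectiveSpectrum.ext (HomogeneousIdeal.ext (Ideal.ext fun q => by
            show 𝒮.res hU hE hb.le q ∈ y.asHomogeneousIdeal ↔
              𝒮.res (hD k) hE hEk (𝒮.res hU (hD k) (hDb k).le q) ∈ y.asHomogeneousIdeal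
            rw [hφ]))
        obtain ⟨w, hw, h1⟩ := hrel k y' a t (by rw [← hxy]; exact ht) (val_congr ℳ hU _ hxy a t ht _ hat.symm)
        refine ⟨𝒮.res (hD k) hE hEk w, hw, rfl, ?_⟩
        have h2 := congrArg (ℳ.res (hD k) hE hEk) h1
        rw [LinearMap.map_smulₛₗ, LinearMap.map_smulₛₗ, LinearMap.map_smulₛₗ, grModule_res_comp] at h2
        rw [← hφ t]
        exact h2
      have hbi : IsBasic (D i) (S.basicOpen (r i * r j)) := ⟨(S.presheaf.map (homOfLE (hDb i).le).op).hom (r j), by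
        rw [he, Scheme.basicOpen_res]⟩
      have hbj : IsBasic (D j) (S.basicOpen (r i * r j)) := ⟨(S.presheaf.map (homOfLE (hDb j).le).op).hom (r i), by
        rw [he, Scheme.basicOpen_res, inf_comm]⟩
      obtain ⟨w, hw, -, h1⟩ := hsmul i hEi hbi
      obtain ⟨w', hw', -, h2⟩ := hsmul j hEj hbj
      refine (mkx_eq_iff _ _ _).2 ⟨w * w' * 𝒮.res hU hE hb.le t, fun hm => ?_, ?_⟩
      · rcases y.isPrime.mem_or_mem hm with hm | hm
        · rcases y.isPrime.mem_or_mem hm with hm | hm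
          exacts [hw hm, hw' hm]
        · exact ht hm
      · simp only [one_smul]
        rw [mul_smul, mul_comm w w', mul_smul, h1, smul_comm, ← h2, mul_smul, mul_smul, smul_comm w' w]
    have key' := congrArg (fun q : ℳ.mod.val.obj (op (S.basicOpen (r i * r j))) =>
      (osMod ℳ).presheaf.map (homOfLE he.ge).op q) key
    simp only [RelProj.GrModule.res_apply] at key'
    show (osMod ℳ).presheaf.map (Opens.infLELeft (D i) (D j)).op _ = (osMod ℳ).presheaf.map (Opens.infLERight (D i) (D j)).op _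
    rw [Subsingleton.elim (Opens.infLELeft (D i) (D j)) (homOfLE he.ge ≫ homOfLE hEi),
      Subsingleton.elim (Opens.infLERight (D i) (D j)) (homOfLE he.ge ≫ homOfLE hEj), op_comp, op_comp,
      Functor.map_comp, Functor.map_comp]
    exact key'
  obtain ⟨m₀, hm₀, -⟩ := F.existsUnique_gluing' D U (fun i => homOfLE (hDb i).le) hcov _ hglue
  let m : ℳ.deg U hU n := DirectSum.decompose (ℳ.deg U hU) (m₀ : ℳ.mod.val.obj (op U)) n
  have hm : ∀ i, ℳ.res hU (hD i) (hDb i).le m.1 = u i := fun i => by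
    show ℳ.res hU (hD i) (hDb i).le ((DirectSum.decompose (ℳ.deg U hU) (m₀ : ℳ.mod.val.obj (op U)) n).1) = u i
    rw [← GrMod11.decompose_map (𝒮.res hU (hD i) (hDb i).le) (ℳ.res hU (hD i) (hDb i).le) (ℳ.res_mem hU (hD i) (hDb i).le),
      show ℳ.res hU (hD i) (hDb i).le m₀ = u i from hm₀ i]
    exact DirectSum.decompose_of_mem_same _ (hu i)
  refine ⟨m, sec_ext (n := (n : ℤ)) fun x _ => ?_⟩
  obtain ⟨i, hi⟩ : ∃ i, (((𝒮.strZero U hU).hom (r i) : 𝒮.deg U hU 0) : 𝒮.presheaf.obj (op U)) ∉ x.asHomogeneousIdeal := by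
    by_contra! h0
    have hspan := (hU.self_le_iSup_basicOpen_iff (s := Set.range r)).1 (hcov.trans
      (iSup_le fun i => le_iSup_of_le (⟨r i, ⟨i, rfl⟩⟩ : Set.range r) le_rfl))
    have hle : Ideal.span (Set.range r) ≤ x.asHomogeneousIdeal.toIdeal.comap (𝒮.str.app (op U)).hom :=
      Ideal.span_le.2 (by rintro _ ⟨i, rfl⟩; exact h0 i)
    have h1 := hle (hspan.ge (show (1 : Γ(S, U)) ∈ (⊤ : Ideal Γ(S, U)) from trivial))
    rw [Ideal.mem_comap, map_one] at h1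
    exact GrMod.one_nin x h1
  have hres := isResLoc 𝒮 hU (hD i) (hDb i).le (r i) rfl
  obtain ⟨y, hy⟩ : x ∈ Set.range (Proj.map (𝒮.res hU (hD i) (hDb i).le) ((hDb i).irrelevant hU (hD i))) := by
    rw [range_map _ hres]
    have hx' : x ∈ Proj.toSpecZero (𝒮.deg U hU) ⁻¹ᵁ PrimeSpectrum.basicOpen ((𝒮.strZero U hU).hom (r i)) := by
      rw [toSpecZero_preimage_basicOpen]; exact hi
    exact hx'
  subst hy
  obtain ⟨⟨a, t, ht⟩, hat⟩ : ∃ q : ℳ.mod.val.obj (op U) × (ProjectiveSpectrum.comap (𝒮.res hU (hD i) (hDb i).le)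
        ((hDb i).irrelevant hU (hD i)) y).asHomogeneousIdeal.toIdeal.primeCompl,
      LocalizedModule.mk q.1 q.2 = val (s : Sec (ℳ := ℳ.deg U hU) (n : ℤ) (⊤ : (Proj (𝒮.deg U hU)).Opens)) _ trivial := by
    induction val (s : Sec (ℳ := ℳ.deg U hU) (n : ℤ) (⊤ : (Proj (𝒮.deg U hU)).Opens))
      (ProjectiveSpectrum.comap (𝒮.res hU (hD i) (hDb i).le) ((hDb i).irrelevant hU (hD i)) y) trivial
      using LocalizedModule.induction_on with
    | h a b => exact ⟨(a, b), rfl⟩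
  refine Eq.trans ?_ hat
  obtain ⟨w, hw, h1⟩ := hrel i y a t ht hat.symm
  obtain ⟨k, w', hw'⟩ := GrTw11.exists_lift' hres w
  obtain ⟨L, hL⟩ := grModule_res_eq_zero hℳ hU (hD i) (hDb i).le (r i) rfl (w' • (t • m.1 - a)) (by
    rw [LinearMap.map_smulₛₗ, map_sub, LinearMap.map_smulₛₗ, hm]
    show 𝒮.res hU (hD i) (hDb i).le w' • _ = _
    rw [← hw', mul_comm, mul_smul, smul_sub]
    exact (congrArg (_ • ·) (sub_eq_zero.2 h1)).trans (smul_zero _))
  refine (mkx_eq_iff _ _ _).2 ⟨((((𝒮.strZero U hU).hom (r i) : 𝒮.deg U hU 0)) : 𝒮.presheaf.obj (op U)) ^ L * w', ?_, ?_⟩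
  · intro hm'
    rcases (ProjectiveSpectrum.comap (𝒮.res hU (hD i) (hDb i).le) ((hDb i).irrelevant hU (hD i)) y).isPrime.mem_or_mem hm'
      with h' | h'
    · exact hi (Ideal.IsPrime.mem_of_pow_mem (ProjectiveSpectrum.comap _ _ y).isPrime L h')
    · have h'' : 𝒮.res hU (hD i) (hDb i).le w' ∈ y.asHomogeneousIdeal := h'
      rw [← hw'] at h''
      exact (y.isPrime.mem_or_mem h'').elim hw (GrTw11.psi_notMem hres y k)
  · rw [one_smul, ← sub_eq_zero, ← smul_sub, mul_smul]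
    exact hL

/-- One bound for all affine opens. -/
theorem exists_uniform [AlgebraicGeometry.IsNoetherian S]
    (hft : ∀ (U : S.Opens) (_ : IsAffineOpen U), (𝒮.str.app (op U)).hom.FiniteType)
    (hℳ : Coh.IsQCoh (osMod ℳ)) (hTF : ℳ.IsTF) :
    ∃ N : ℕ, ∀ n : ℕ, N ≤ n → ∀ (U : S.Opens) (hU : IsAffineOpen U),
      Function.Bijective (GrMod.alpha (𝒮.deg U hU) (ℳ.deg U hU) n) := by
  classical
  obtain ⟨k, hk⟩ := hTF
  have hloc : ∀ V : S.affineOpens, ∃ N, ∀ (D : S.Opens) (hD : IsAffineOpen D), IsBasic V.1 D → ∀ N', N ≤ N' → Good ℳ N' D hD := by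
    rintro ⟨U, hU⟩
    haveI : IsNoetherianRing Γ(S, U) := IsLocallyNoetherian.component_noetherian ⟨U, hU⟩
    letI := (𝒮.str.app (op U)).hom.toAlgebra
    haveI : Algebra.FiniteType Γ(S, U) (𝒮.presheaf.obj (op U)) := hft U hU
    haveI : IsNoetherianRing (𝒮.presheaf.obj (op U)) := Algebra.FiniteType.isNoetherianRing Γ(S, U) _
    obtain ⟨κ, _, g, e, hg, he, hgen⟩ := GrSerre13.exists_gens (𝒮.deg U hU)
    obtain ⟨N, hinj, hext⟩ := GrSerre13.exists_bounds (𝒮.deg U hU) (ℳ.deg U hU) g e hg (hk U hU) hgen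
    exact ⟨N, fun D hD hb N' hN' n hn =>
      good_of_bounds_basic ℳ hℳ hU hD hb g e hg he hgen hinj hext n (hN'.trans hn)⟩
  choose N hN using hloc
  obtain ⟨T, hT⟩ := (isCompact_univ (X := S)).elim_finite_subcover (fun V : S.affineOpens => (V.1 : Set S))
    (fun V => V.1.2) (fun x _ => by
      have hx : x ∈ (⨆ V : S.affineOpens, (V.1 : S.Opens)) := by rw [iSup_affineOpens_eq_top]; trivial
      exact Set.mem_iUnion.2 (TopologicalSpace.Opens.mem_iSup.1 hx))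
  refine ⟨∑ V ∈ T, N V, fun n hn U hU => ?_⟩
  have hpt : ∀ x : U, ∃ f : Γ(S, U), x.1 ∈ S.basicOpen f ∧ ∃ V ∈ T, IsBasic V.1 (S.basicOpen f) := fun x => by
    obtain ⟨V, hV, hxV⟩ := Set.mem_iUnion₂.1 (hT (Set.mem_univ x.1))
    obtain ⟨f, g, e, hxf⟩ := exists_basicOpen_le_affine_inter hU V.2 x.1 ⟨x.2, hxV⟩
    exact ⟨f, hxf, V, hV, g, e⟩
  choose f hxf V hVT hb using hpt
  refine good_of_cover ℳ hℳ hU f (fun x hx => TopologicalSpace.Opens.mem_iSup.2 ⟨⟨x, hx⟩, hxf ⟨x, hx⟩⟩)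
    (fun i => hN (V i) _ _ (hb i) _ (Finset.single_le_sum (fun v _ => Nat.zero_le (N v)) (hVT i)))
    (fun i j => hN (V i) _ _ (IsBasic.trans (V i).2 (hb i) ⟨(S.presheaf.map (homOfLE (S.basicOpen_le (f i))).op).hom (f j), by
      rw [S.basicOpen_mul, Scheme.basicOpen_res]⟩) _ (Finset.single_le_sum (fun v _ => Nat.zero_le (N v)) (hVT i))) n hn

end Groth.Agent.GrSerreU13
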